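import Mathlib.LinearAlgebra.Dimension.Constructions
import Mathlib.LinearAlgebra.FiniteDimensional.Lemmas
import Mathlib.LinearAlgebra.Basis.VectorSpace
import Mathlib.LinearAlgebra.Basis.Basic
import Mathlib.Data.Finset.Sigma
import Mathlib.Data.List.GetD
import Mathlib.LinearAlgebra.Dimension.OrzechProperty

/-! Classification of chains of linear maps `V 0 → V 1 → ⋯` between finite-dimensional spaces:
two chains are isomorphic on `[1, r]` when the ranks of all composites agree. -/

set_option linter.unusedSectionVars false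

namespace Groth.Agent.ChainRep38

open Module

universe u v

variable {k : Type u} [Field k]

/-- The composite `V i → V j`. -/
def tr {V : ℕ → Type v} [∀ i, AddCommGroup (V i)] [∀ i, Module k (V i)]
    (g : ∀ i, V i →ₗ[k] V (i + 1)) (i : ℕ) : ∀ {j : ℕ}, i ≤ j → (V i →ₗ[k] V j) :=
  fun {_} h => Nat.leRec (motive := fun j _ => V i →ₗ[k] V j) LinearMap.id (fun j _ φ => g j ∘ₗ φ) h

section chain

variable {V : ℕ → Type v} [∀ i, AddCommGroup (V i)] [∀ i, Module k (V i)]
variable (g : ∀ i, V i →ₗ[k] V (i + 1))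

theorem tr_self (i : ℕ) (h : i ≤ i) : tr g i h = LinearMap.id := by simp [tr, Nat.leRec_self]

theorem tr_succ {i j : ℕ} (h : i ≤ j) (h' : i ≤ j + 1) : tr g i h' = g j ∘ₗ tr g i h := by
  simp [tr, Nat.leRec_succ _ _ h]

theorem tr_trans {i j l : ℕ} (h : i ≤ j) (h' : j ≤ l) :
    tr g i (h.trans h') = tr g j h' ∘ₗ tr g i h := by
  induction l, h' using Nat.le_induction with
  | base => rw [tr_self, LinearMap.id_comp]
  | succ l hl ih => rw [tr_succ g (h.trans hl), tr_succ g hl, ih, LinearMap.comp_assoc]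

theorem range_tr_succ {i j : ℕ} (h : i ≤ j) (h' : i ≤ j + 1) :
    LinearMap.range (tr g i h') = (LinearMap.range (tr g i h)).map (g j) := by
  rw [tr_succ g h, LinearMap.range_comp]

theorem range_tr_le {i i' j : ℕ} (h : i ≤ i') (h' : i' ≤ j) :
    LinearMap.range (tr g i (h.trans h')) ≤ LinearMap.range (tr g i' h') := by
  rw [tr_trans g h h']
  exact LinearMap.range_comp_le_range _ _

theorem ker_tr_le {i j l : ℕ} (h : i ≤ j) (h' : j ≤ l) :
    LinearMap.ker (tr g i h) ≤ LinearMap.ker (tr g i (h.trans h')) := by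
  rw [tr_trans g h h']
  exact LinearMap.ker_le_ker_comp _ _

/-- The rank of `V i → V j`, with the value `0` for `i = 0` or `j < i`. -/
noncomputable def rk (i j : ℕ) : ℕ :=
  if h : i ≤ j then (if i = 0 then 0 else finrank k (LinearMap.range (tr g i h))) else 0

theorem rk_of_pos {i j : ℕ} (hi : i ≠ 0) (h : i ≤ j) :
    rk g i j = finrank k (LinearMap.range (tr g i h)) := by
  simp [rk, h, hi]

theorem rk_zero (j : ℕ) : rk g 0 j = 0 := by simp [rk]

end chain

section linalg

variable {M : Type v} [AddCommGroup M] [Module k M] [FiniteDimensional k M]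
variable {N : Type v} [AddCommGroup N] [Module k N]

theorem nullity (g : M →ₗ[k] N) (I : Submodule k M) :
    finrank k (I.map g) + finrank k ↥(I ⊓ LinearMap.ker g) = finrank k I := by
  have h := LinearMap.finrank_range_add_finrank_ker (g.domRestrict I)
  rw [LinearMap.range_domRestrict, LinearMap.ker_domRestrict] at h
  rw [← h, ← Submodule.map_comap_subtype, Submodule.finrank_map_subtype_eq]

theorem finrank_map_sub_le (g : M →ₗ[k] N) {I' I : Submodule k M} (h : I' ≤ I) :
    finrank k (I.map g) + finrank k I' ≤ finrank k (I'.map g) + finrank k I := by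
  have h1 := nullity g I
  have h2 := nullity g I'
  have h3 : finrank k ↥(I' ⊓ LinearMap.ker g) ≤ finrank k ↥(I ⊓ LinearMap.ker g) :=
    Submodule.finrank_mono (inf_le_inf_right _ h)
  omega

theorem finrank_sup_ker (g : M →ₗ[k] N) (L : Submodule k M) :
    finrank k ↥(L ⊔ LinearMap.ker g) + finrank k (LinearMap.range g) =
      finrank k (L.map g) + finrank k M := by
  have h1 := nullity g (L ⊔ LinearMap.ker g)
  rw [Submodule.map_sup, inf_eq_right.mpr le_sup_right] at h1
  have h2 : (LinearMap.ker g).map g = ⊥ := by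
    rw [eq_bot_iff]; rintro _ ⟨x, hx, rfl⟩; exact hx
  rw [h2, sup_bot_eq] at h1
  have h3 := LinearMap.finrank_range_add_finrank_ker g
  omega

/-- Extend a list spanning `S` over `L` by elements of `K`. -/
theorem exists_extend_list (L K : Submodule k M) :
    ∀ (n : ℕ) (S : Submodule k M) (l : List M), L ⊔ Submodule.span k {x | x ∈ l} = S →
      l.length + finrank k L = finrank k S → finrank k ↥(S ⊔ K) ≤ finrank k S + n →
      ∃ l' : List M, (∀ x ∈ l', x ∈ K) ∧ L ⊔ Submodule.span k {x | x ∈ l ++ l'} = S ⊔ K ∧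
        (l ++ l').length + finrank k L = finrank k ↥(S ⊔ K) := by
  intro n
  induction n with
  | zero =>
    intro S l hl hlen hn
    have h : S = S ⊔ K := Submodule.eq_of_le_of_finrank_le le_sup_left (by omega)
    exact ⟨[], by simp, by rw [List.append_nil, ← h, hl], by rw [List.append_nil, ← h, hlen]⟩
  | succ n ih =>
    intro S l hl hlen hn
    by_cases hK : K ≤ S
    · have h : S ⊔ K = S := sup_eq_left.mpr hK
      exact ⟨[], by simp, by rw [List.append_nil, h, hl], by rw [List.append_nil, h, hlen]⟩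
    obtain ⟨v, hvK, hvS⟩ := Set.not_subset.mp hK
    let S' := S ⊔ Submodule.span k {v}
    have hlt : S < S' := by
      refine lt_of_le_of_ne le_sup_left fun h => hvS ?_
      rw [SetLike.mem_coe, h]
      exact Submodule.mem_sup_right (Submodule.mem_span_singleton_self v)
    have hd1 := Submodule.finrank_lt_finrank_of_lt hlt
    have hd2 : finrank k S' ≤ finrank k S + 1 := by
      refine (Submodule.finrank_add_le_finrank_add_finrank S (Submodule.span k {v})).trans ?_
      have := finrank_span_le_card (R := k) ({v} : Set M)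
      simp only [Set.toFinset_singleton, Finset.card_singleton] at this
      omega
    have hS'K : S' ⊔ K = S ⊔ K := by
      rw [sup_assoc, sup_eq_right.mpr ((Submodule.span_singleton_le_iff_mem v K).mpr hvK)]
    have hl' : L ⊔ Submodule.span k {x | x ∈ l ++ [v]} = S' := by
      rw [show {x | x ∈ l ++ [v]} = {x | x ∈ l} ∪ {v} by ext x; simp [or_comm], Submodule.span_union, ← sup_assoc, hl]
    obtain ⟨l', hl'K, h1, h2⟩ := ih S' (l ++ [v]) hl'
      (by rw [List.length_append, List.length_singleton]; omega) (by rw [hS'K]; omega)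
    refine ⟨v :: l', ?_, ?_, ?_⟩
    · intro x hx
      rcases List.mem_cons.mp hx with rfl | hx
      exacts [hvK, hl'K x hx]
    · rw [← hS'K, ← h1]; simp
    · rw [← hS'K, ← h2]; simp

/-- A complement basis of `L` adapted to an increasing sequence of subspaces. -/
theorem exists_adapted (L : Submodule k M) (K : ℕ → Submodule k M) (hK : Monotone K) (n : ℕ) :
    ∃ y : ℕ → M, L ⊔ Submodule.span k (y '' (Set.Iio (finrank k M - finrank k L))) = ⊤ ∧
      ∀ j ≤ n, ∀ s : ℕ, s + finrank k L < finrank k ↥(L ⊔ K j) → y s ∈ K j := by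
  classical
  have H : ∀ m : ℕ, ∃ l : List M, L ⊔ Submodule.span k {x | x ∈ l} = L ⊔ K m ∧
      l.length + finrank k L = finrank k ↥(L ⊔ K m) ∧
      ∀ j ≤ m, ∀ x ∈ l.take (finrank k ↥(L ⊔ K j) - finrank k L), x ∈ K j := by
    intro m
    induction m with
    | zero =>
      obtain ⟨l, h1, h2, h3⟩ := exists_extend_list L (K 0) _ L [] (by simp) (by simp) (le_add_left le_rfl)
      refine ⟨l, by simpa using h2, by simpa using h3, fun j hj x hx => ?_⟩
      rw [Nat.le_zero.mp hj]
      exact h1 x (List.mem_of_mem_take hx)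
    | succ m ih =>
      obtain ⟨l, hl, hlen, hmem⟩ := ih
      obtain ⟨l', h1, h2, h3⟩ := exists_extend_list L (K (m + 1)) _ _ l hl hlen (le_add_left le_rfl)
      have e : L ⊔ K m ⊔ K (m + 1) = L ⊔ K (m + 1) := by
        rw [sup_assoc, sup_eq_right.mpr (hK (Nat.le_succ m))]
      rw [e] at h2 h3
      refine ⟨l ++ l', h2, h3, fun j hj x hx => ?_⟩
      rcases Nat.lt_or_ge m j with hjm | hjm
      · obtain rfl : j = m + 1 := by omega
        rcases List.mem_append.mp (List.mem_of_mem_take hx) with hx | hx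
        · exact hK (Nat.le_succ m) (hmem m le_rfl x (by rwa [List.take_of_length_le (by omega)]))
        · exact h1 x hx
      · have : finrank k ↥(L ⊔ K j) ≤ finrank k ↥(L ⊔ K m) :=
          Submodule.finrank_mono (sup_le_sup_left (hK hjm) L)
        rw [List.take_append_of_le_length (by omega)] at hx
        exact hmem j hjm x hx
  obtain ⟨l, hl, hlen, hmem⟩ := H n
  obtain ⟨l', -, h2, h3⟩ := exists_extend_list L (⊤ : Submodule k M) _ _ l hl hlen (le_add_left le_rfl)
  rw [sup_top_eq] at h2 h3
  rw [finrank_top] at h3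
  refine ⟨fun s => (l ++ l').getD s 0, ?_, fun j hj s hs => ?_⟩
  · rw [eq_top_iff, ← h2]
    refine sup_le_sup_left (Submodule.span_le.mpr fun x hx => ?_) L
    obtain ⟨s, hs, rfl⟩ := List.mem_iff_getElem.mp hx
    refine Submodule.subset_span ⟨s, ?_, List.getD_eq_getElem _ _ hs⟩
    rw [Set.mem_Iio]; omega
  · have : finrank k ↥(L ⊔ K j) ≤ finrank k ↥(L ⊔ K n) :=
      Submodule.finrank_mono (sup_le_sup_left (hK hj) L)
    have hs' : s < l.length := by omega
    show (l ++ l').getD s 0 ∈ K j
    rw [List.getD_append _ _ _ _ hs', List.getD_eq_getElem _ _ hs']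
    exact hmem j hj _ (List.mem_take_iff_getElem.mpr ⟨s, by omega, rfl⟩)

end linalg

section adapted

variable {V : ℕ → Type v} [∀ i, AddCommGroup (V i)] [∀ i, Module k (V i)] [∀ i, FiniteDimensional k (V i)]
variable (g : ∀ i, V i →ₗ[k] V (i + 1))

/-- The number of summands born at `i` and alive at `j`. -/
noncomputable def born (i j : ℕ) : ℕ := rk g i j - rk g (i - 1) j

theorem rk_diag {i : ℕ} (hi : i ≠ 0) : rk g i i = finrank k (V i) := by
  rw [rk_of_pos g hi le_rfl, tr_self, LinearMap.range_id, finrank_top]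

theorem rk_mono_left {i j : ℕ} (h : i < j) : rk g i j ≤ rk g (i + 1) j := by
  rcases Nat.eq_zero_or_pos i with rfl | hi
  · simp [rk_zero]
  rw [rk_of_pos g (by omega) h.le, rk_of_pos g (by omega) h]
  exact Submodule.finrank_mono (range_tr_le g (Nat.le_succ i) h)

theorem sum_born (j : ℕ) : ∀ m, m ≤ j → ∑ i ∈ Finset.Icc 1 m, born g i j = rk g m j := by
  intro m
  induction m with
  | zero => intro _; simp [rk_zero]
  | succ m ih =>
    intro hm
    rw [Finset.sum_Icc_succ_top (by omega), ih (by omega), born, Nat.add_sub_cancel]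
    have := rk_mono_left g (show m < j by omega)
    omega

/-- The index set at level `j`. -/
noncomputable def idx (j : ℕ) : Finset ((_ : ℕ) × ℕ) :=
  (Finset.Icc 1 j).sigma fun i => Finset.range (born g i j)

theorem exists_system (r : ℕ) : ∃ y : ∀ i, ℕ → V i,
    (∀ i j : ℕ, 1 ≤ i → ∀ h : i ≤ j, j ≤ r → ∀ s : ℕ, s + born g i j < born g i i → tr g i h (y i s) = 0) ∧
    ∀ j : ℕ, 1 ≤ j → j ≤ r → ∃ b : Basis (idx g j) k (V j), ∀ p : idx g j, ∃ h : p.1.1 ≤ j,
      b p = tr g p.1.1 h (y p.1.1 (born g p.1.1 p.1.1 - born g p.1.1 j + p.1.2)) := by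
  classical
  let L : ∀ i, Submodule k (V i) := fun i =>
    match i with
    | 0 => ⊥
    | 1 => ⊥
    | i + 2 => LinearMap.range (g (i + 1))
  have hL : ∀ i j (hi : 1 ≤ i) (h : i ≤ j), finrank k ((L i).map (tr g i h)) = rk g (i - 1) j := by
    intro i j hi h
    match i, hi with
    | 1, _ => simp [L, rk_zero]
    | i + 2, _ =>
      have hle : i + 1 ≤ i + 2 := Nat.le_succ _
      rw [show i + 2 - 1 = i + 1 from rfl, rk_of_pos g (by omega) (hle.trans h), tr_trans g hle h,
        LinearMap.range_comp, tr_succ g (le_refl (i + 1)), tr_self, LinearMap.comp_id]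
  have hLdim : ∀ i, 1 ≤ i → finrank k (L i) = rk g (i - 1) i := by
    intro i hi
    rw [← hL i i hi le_rfl, tr_self, Submodule.map_id]
  let K : ∀ i, ℕ → Submodule k (V i) := fun i m => LinearMap.ker (tr g i (Nat.le_add_right i m))
  have hKm : ∀ i, Monotone (K i) := fun i m m' hmm => ker_tr_le g (Nat.le_add_right i m) (Nat.add_le_add_left hmm i)
  choose y hytop hyK using fun i => exists_adapted (L i) (K i) (hKm i) r
  have hvan : ∀ i j : ℕ, 1 ≤ i → ∀ h : i ≤ j, j ≤ r → ∀ s : ℕ, s + born g i j < born g i i →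
      tr g i h (y i s) = 0 := by
    intro i j hi h hj s hs
    obtain ⟨m, rfl⟩ := Nat.exists_eq_add_of_le h
    refine LinearMap.mem_ker.mp (hyK i m (by omega) s ?_)
    have h1 := finrank_sup_ker (tr g i h) (L i)
    rw [hL i (i + m) hi h, ← rk_of_pos g (by omega) h, ← rk_diag g (by omega : i ≠ 0)] at h1
    have h2 := hLdim i hi
    simp only [born] at hs
    show s + finrank k (L i) < finrank k ↥(L i ⊔ LinearMap.ker (tr g i h))
    omega
  refine ⟨y, hvan, fun j hj hjr => ?_⟩
  have hmem : ∀ p : idx g j, (1 ≤ p.1.1 ∧ p.1.1 ≤ j) ∧ p.1.2 < born g p.1.1 j := fun p =>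
    ⟨Finset.mem_Icc.mp (Finset.mem_sigma.mp p.2).1, Finset.mem_range.mp (Finset.mem_sigma.mp p.2).2⟩
  let v : idx g j → V j := fun p =>
    tr g p.1.1 (hmem p).1.2 (y p.1.1 (born g p.1.1 p.1.1 - born g p.1.1 j + p.1.2))
  have hspan : ∀ i, 1 ≤ i → ∀ h : i ≤ j, LinearMap.range (tr g i h) ≤ Submodule.span k (Set.range v) := by
    intro i
    induction i with
    | zero => omega
    | succ i ih =>
      intro _ h
      rw [LinearMap.range_eq_map, ← hytop (i + 1), Submodule.map_sup, Submodule.map_span, sup_le_iff]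
      constructor
      · rcases i with _ | i
        · simp [L]
        · refine le_trans ?_ (ih (by omega) (by omega))
          rw [tr_trans g (Nat.le_succ (i + 1)) h, LinearMap.range_comp, tr_succ g (le_refl (i + 1)), tr_self,
            LinearMap.comp_id]
      · rw [Submodule.span_le]
        rintro _ ⟨_, ⟨s, hs, rfl⟩, rfl⟩
        rw [Set.mem_Iio] at hs
        have hs' : s < born g (i + 1) (i + 1) := by
          rw [born, rk_diag g (by omega), ← hLdim (i + 1) (by omega)]
          exact hs
        by_cases hs2 : s + born g (i + 1) j < born g (i + 1) (i + 1)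
        · rw [hvan (i + 1) j (by omega) h hjr s hs2]
          exact zero_mem _
        · refine Submodule.subset_span ⟨⟨⟨i + 1, s - (born g (i + 1) (i + 1) - born g (i + 1) j)⟩, ?_⟩, ?_⟩
          · simp [idx]; omega
          · show tr g (i + 1) _ (y (i + 1) (born g (i + 1) (i + 1) - born g (i + 1) j +
              (s - (born g (i + 1) (i + 1) - born g (i + 1) j)))) = _
            congr 2
            omega
  have htop : ⊤ ≤ Submodule.span k (Set.range v) := by
    have := hspan j hj le_rfl
    rwa [tr_self, LinearMap.range_id] at this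
  have hcard : Fintype.card (idx g j) = finrank k (V j) := by
    rw [Fintype.card_coe, idx, Finset.card_sigma]
    simp only [Finset.card_range]
    rw [sum_born g j j le_rfl, rk_diag g (by omega)]
  exact ⟨basisOfTopLeSpanOfCardEqFinrank v htop hcard, fun p => ⟨(hmem p).1.2, by
    rw [coe_basisOfTopLeSpanOfCardEqFinrank]⟩⟩

end adapted

section iso

variable {V W : ℕ → Type v} [∀ i, AddCommGroup (V i)] [∀ i, Module k (V i)] [∀ i, FiniteDimensional k (V i)]
variable [∀ i, AddCommGroup (W i)] [∀ i, Module k (W i)] [∀ i, FiniteDimensional k (W i)]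

/-- Chains with the same ranks are isomorphic on `[1, r]`. -/
theorem exists_iso (g : ∀ i, V i →ₗ[k] V (i + 1)) (g' : ∀ i, W i →ₗ[k] W (i + 1)) (r : ℕ)
    (h : ∀ i j, 1 ≤ i → i ≤ j → j ≤ r → rk g i j = rk g' i j) (e : ∀ j, V j ≃ₗ[k] W j) :
    ∃ φ : ∀ j, V j ≃ₗ[k] W j, ∀ i, 1 ≤ i → i + 1 ≤ r → ∀ x, φ (i + 1) (g i x) = g' i (φ i x) := by
  classical
  obtain ⟨y, hy0, hyb⟩ := exists_system g r
  obtain ⟨y', hy0', hyb'⟩ := exists_system g' r
  have hborn : ∀ i j, 1 ≤ i → i ≤ j → j ≤ r → born g i j = born g' i j := by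
    intro i j hi hij hjr
    rcases Nat.eq_zero_or_pos (i - 1) with h0 | h0
    · simp [born, h0, rk_zero, h i j hi hij hjr]
    · rw [born, born, h i j hi hij hjr, h (i - 1) j h0 (by omega) hjr]
  have hidx : ∀ j, j ≤ r → idx g j = idx g' j := by
    intro j hj
    ext ⟨i, t⟩
    simp only [idx, Finset.mem_sigma, Finset.mem_Icc, Finset.mem_range]
    exact and_congr_right fun hi => by rw [hborn i j hi.1 hi.2 hj]
  have hφ : ∀ j, ∃ φ : V j ≃ₗ[k] W j, 1 ≤ j → j ≤ r → ∀ i, 1 ≤ i → ∀ hij : i ≤ j, ∀ s,
      s < born g i i → φ (tr g i hij (y i s)) = tr g' i hij (y' i s) := by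
    intro j
    by_cases hj : 1 ≤ j ∧ j ≤ r
    · obtain ⟨b, hb⟩ := hyb j hj.1 hj.2
      obtain ⟨b', hb'⟩ := hyb' j hj.1 hj.2
      refine ⟨b.equiv b' (Equiv.subtypeEquivRight fun p => by rw [hidx j hj.2]), fun _ _ i hi hij s hs => ?_⟩
      by_cases hs2 : s + born g i j < born g i i
      · rw [hy0 i j hi hij hj.2 s hs2, map_zero, hy0' i j hi hij hj.2 s
          (by rwa [← hborn i j hi hij hj.2, ← hborn i i hi le_rfl (by omega)])]
      · let p : idx g j := ⟨⟨i, s - (born g i i - born g i j)⟩, by simp [idx]; omega⟩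
        obtain ⟨_, hp⟩ := hb p
        obtain ⟨_, hp'⟩ := hb' (Equiv.subtypeEquivRight (fun q => by rw [hidx j hj.2]) p)
        have es : born g i i - born g i j + (s - (born g i i - born g i j)) = s := by omega
        have h1 : tr g i hij (y i s) = b p := by
          rw [hp]; show _ = tr g i _ (y i _); rw [es]
        rw [h1, Module.Basis.equiv_apply, hp']
        show tr g' i hij (y' i (born g' i i - born g' i j + (s - (born g i i - born g i j)))) = _
        rw [← hborn i j hi hij hj.2, ← hborn i i hi le_rfl (by omega), es]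
    · exact ⟨e j, fun h1 h2 => absurd ⟨h1, h2⟩ hj⟩
  choose φ hφ using hφ
  refine ⟨φ, fun i hi hir x => ?_⟩
  obtain ⟨b, hb⟩ := hyb i hi (by omega)
  have : (φ (i + 1)).toLinearMap ∘ₗ g i = g' i ∘ₗ (φ i).toLinearMap := by
    refine b.ext fun p => ?_
    obtain ⟨hpi, hp⟩ := hb p
    have hm := p.2
    simp only [idx, Finset.mem_sigma, Finset.mem_Icc, Finset.mem_range] at hm
    have hs : born g p.1.1 p.1.1 - born g p.1.1 i + p.1.2 < born g p.1.1 p.1.1 ∨
        born g p.1.1 p.1.1 < born g p.1.1 i := by omega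
    have hle : born g p.1.1 i ≤ born g p.1.1 p.1.1 := by
      by_contra hcon
      have h1 := finrank_map_sub_le (tr g p.1.1 hpi) (le_top (a := (⊥ : Submodule k (V p.1.1))))
      rcases Nat.eq_zero_or_pos (p.1.1 - 1) with h0 | h0
      · rw [born, born, h0, rk_zero, rk_zero, rk_of_pos g (by omega) hpi, rk_diag g (by omega)] at hcon
        have := LinearMap.finrank_range_le (tr g p.1.1 hpi)
        omega
      · have hle' : p.1.1 - 1 ≤ p.1.1 := Nat.sub_le _ _
        have h2 := finrank_map_sub_le (tr g p.1.1 hpi)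
          (le_top (a := LinearMap.range (tr g (p.1.1 - 1) hle')))
        rw [← LinearMap.range_comp, ← tr_trans g hle' hpi, ← rk_of_pos g (by omega) (hle'.trans hpi),
          ← rk_of_pos g (by omega) hle', finrank_top, ← rk_diag g (show p.1.1 ≠ 0 by omega),
          Submodule.map_top, ← rk_of_pos g (by omega) hpi] at h2
        simp only [born] at hcon
        omega
    simp only [LinearMap.comp_apply, LinearEquiv.coe_coe]
    rw [hp, ← LinearMap.comp_apply (g i), ← tr_succ g hpi (by omega),
      hφ (i + 1) (by omega) hir p.1.1 hm.1.1 (by omega) _ (by omega),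
      hφ i hi (by omega) p.1.1 hm.1.1 hpi _ (by omega), ← LinearMap.comp_apply (g' i),
      ← tr_succ g' hpi (by omega)]
  exact LinearMap.congr_fun this x

end iso

end Groth.Agent.ChainRep38
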